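import Groth.Agent.S1618
import Groth.Agent.S1937
import Groth.Agent.LocalDimBC.Smooth
import Groth.Agent.QC.OmegaAffineSect
import Groth.Agent.PBundle.TopPower
import Groth.Agent.W7Strat.Frame
import Groth.Agent.EulerMult.Isogeny
import Groth.Agent.OmegaLib.Universal
import Groth.Agent.FittLib.OmegaFit
import Groth.Prelude.Def_ExtPow2

/-!
Differentials of smooth varieties are locally free of rank the dimension, free on groups; exterior powers of
free modules.
-/

set_option autoImplicit false
set_option backward.isDefEq.respectTransparency false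
set_option linter.style.haveILetI false
set_option linter.unusedSectionVars false

universe u

open CategoryTheory CategoryTheory.Limits AlgebraicGeometry TopologicalSpace Opposite MonObj
open Groth.Agent.QC (res resO res_res res_self res_smul app_res)

noncomputable section

namespace Groth.Agent.AVOmega

variable {k : Type u} [Field k] {X : Scheme.{u}}

/-- In an irreducible variety all points have local dimension the dimension. -/
theorem localDim_eq_dim (π : X ⟶ Spec (CommRingCat.of k)) [LocallyOfFiniteType π] [IrreducibleSpace X]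
    {A : CommRingCat.{u}} (j : Spec A ⟶ X) [IsOpenImmersion j] (p : Spec A) :
    FlatMor.localDim (PrimeSpectrum A) p = topologicalKrullDim X := by
  letI : X.Over (Spec (CommRingCat.of k)) := ⟨π⟩
  haveI : LocallyOfFiniteType (X ↘ Spec (CommRingCat.of k)) := ‹LocallyOfFiniteType π›
  have key : ∀ O : Opens (PrimeSpectrum A), p ∈ O → topologicalKrullDim (O : Set (PrimeSpectrum A)) =
      topologicalKrullDim X := fun O hp => by
    let W : X.Opens := j ''ᵁ O
    have h := Groth.Agent.S1618.result k X W ⟨j p, p, hp, rfl⟩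
    rw [← h]
    exact IsHomeomorph.topologicalKrullDim_eq _
      (j.isOpenEmbedding.isEmbedding.homeomorphImage (O : Set (PrimeSpectrum A))).isHomeomorph
  haveI : Nonempty {O : Opens (PrimeSpectrum A) // p ∈ O} := ⟨⟨⊤, trivial⟩⟩
  refine le_antisymm ((iInf_le _ ⟨⊤, trivial⟩).trans (key ⊤ trivial).le) (le_iInf fun O => (key O.1 O.2).ge)

/-- Differentials of a smooth irreducible variety are locally free of rank its dimension. -/
theorem isFinLocFreeOfRank_omega (π : X ⟶ Spec (CommRingCat.of k)) [Smooth π] [QuasiSeparated π]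
    [IrreducibleSpace X] (g : ℕ) (hg : topologicalKrullDim X = g) :
    FlatMod.IsFinLocFreeOfRank g (Omega.sheaf π) := by
  refine Groth.Agent.W7Strat.isFinLocFreeOfRank_of_frames fun x => ?_
  obtain ⟨V, hV, U, hU, hxU, e, hs⟩ := Smooth.exists_isStandardSmooth π x
  obtain rfl : V = ⊤ := eq_top_iff.2 fun y _ => by
    rw [Subsingleton.elim (α := PrimeSpectrum k) y (π x)]
    exact e hxU
  let ψ : CommRingCat.of k ⟶ Γ(X, U) := (Scheme.ΓSpecIso (CommRingCat.of k)).inv ≫ π.appLE ⊤ U e
  letI : Algebra k Γ(X, U) := ψ.hom.toAlgebra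
  haveI hA : Algebra.IsStandardSmooth k Γ(X, U) := by
    have h1 : ψ.hom.IsStandardSmooth := by
      have := RingHom.isStandardSmooth_respectsIso.2 (π.appLE ⊤ U e).hom
        (Scheme.ΓSpecIso (CommRingCat.of k)).symm.commRingCatIsoToRingEquiv hs
      exact this
    exact h1
  obtain ⟨ι₁, σ₁, _, _, ⟨P⟩⟩ := hA
  haveI hn : Algebra.IsStandardSmoothOfRelativeDimension P.dimension k Γ(X, U) := ⟨_, _, _, ‹_›, ⟨P, rfl⟩⟩
  obtain ⟨z, hz⟩ : x ∈ Set.range hU.fromSpec := hU.range_fromSpec.ge hxU
  have hdim : P.dimension = g := by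
    have h1 := LocalDimBC.localDim_of_isStandardSmooth P.dimension (K := k) (A := Γ(X, U)) z
    rw [localDim_eq_dim π hU.fromSpec z, hg] at h1
    exact_mod_cast h1.symm
  haveI : Nontrivial Γ(X, U) := PrimeSpectrum.nontrivial z
  haveI : Algebra.IsStandardSmooth k Γ(X, U) :=
    Algebra.IsStandardSmoothOfRelativeDimension.isStandardSmooth P.dimension
  haveI : Module.Finite Γ(X, U) Ω[Γ(X, U)⁄k] := inferInstance
  haveI : Module.Free Γ(X, U) Ω[Γ(X, U)⁄k] := inferInstance
  have hr : Module.finrank Γ(X, U) Ω[Γ(X, U)⁄k] = g := by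
    rw [← hdim]
    exact Module.finrank_eq_of_rank_eq
      (Algebra.IsStandardSmoothOfRelativeDimension.rank_kaehlerDifferential P.dimension)
  let b := Module.finBasisOfFinrankEq Γ(X, U) Ω[Γ(X, U)⁄k] hr
  have w : Spec.map (CommRingCat.ofHom (algebraMap k Γ(X, U))) ≫ 𝟙 _ = hU.fromSpec ≫ π := by
    rw [Category.comp_id, ← IsAffineOpen.SpecMap_appLE_fromSpec π (isAffineOpen_top _) hU e,
      IsAffineOpen.fromSpec_top, Scheme.isoSpec_Spec_inv, ← Spec.map_comp]
    rfl
  obtain ⟨θ, T, hθ, hθb, hT, hTs, -⟩ := Groth.Agent.QC.exists_sectEquiv_omega (R := k) (A := Γ(X, U)) π (𝟙 _)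
    hU.fromSpec w U (by rw [hU.fromSpec.image_top_eq_opensRange]; exact hU.opensRange_fromSpec)
  let v : Fin g → Γ(Omega.sheaf π, U) := fun i => (Equiv.ofBijective T hT).symm (b i)
  refine ⟨U, v, hxU, Groth.Agent.PBundle.isFrame_of_bijective (FittLib.isQCoh_omega π) hU ?_⟩
  have h1 : ∀ c : Fin g → Γ(X, U), T (∑ i, c i • v i) = b.equivFun.symm (fun i => θ (c i)) := fun c => by
    rw [map_sum, Module.Basis.equivFun_symm_apply]
    refine Finset.sum_congr rfl fun i _ => ?_
    rw [hTs]
    exact congrArg (fun w => θ (c i) • w) ((Equiv.ofBijective T hT).apply_symm_apply (b i))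
  have h2 : Function.Bijective fun c : Fin g → Γ(X, U) => T (∑ i, c i • v i) := by
    rw [funext h1]
    exact b.equivFun.symm.bijective.comp ((Equiv.piCongrRight fun _ => Equiv.ofBijective θ hθb).bijective)
  exact (Function.Bijective.of_comp_iff' hT _).1 h2

/-- The differentials of a smooth irreducible group are free. -/
theorem nonempty_omega_free (G : Over (Spec (CommRingCat.of k))) [GrpObj G] [Smooth G.hom] [QuasiSeparated G.hom]
    [IrreducibleSpace G.left] (g : ℕ) (hg : topologicalKrullDim G.left = g) :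
    Nonempty (Omega.sheaf G.hom ≅ FlatMod.freeMod G.left g) := by
  obtain ⟨E⟩ := (Groth.Agent.S1937.result (Spec (CommRingCat.of k)) G).1
  let e : Spec (CommRingCat.of k) ⟶ G.left := η[G].left
  have he : e ≫ G.hom = 𝟙 _ := Over.w η[G]
  haveI : IsImmersion e := by
    haveI : IsImmersion (e ≫ G.hom) := by rw [he]; infer_instance
    exact IsImmersion.of_comp e G.hom
  haveI : QuasiCompact e := by
    haveI : QuasiCompact (e ≫ G.hom) := by rw [he]; infer_instance
    exact MorphismProperty.of_postcomp (W' := @QuasiSeparated) _ e G.hom inferInstance inferInstance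
  obtain ⟨c⟩ := Groth.Agent.GrpOmega.nonempty_iso_conormal G.hom e he
    (Groth.Agent.OmegaLib.isUniversal_dOmega G.hom)
  obtain ⟨F⟩ := Groth.Agent.EulerMult.nonempty_iso_free_field
    (Groth.Agent.CurveRR.Multi.isFinLocFreeOfRank_pullback e (isFinLocFreeOfRank_omega G.hom g hg))
  exact ⟨E ≪≫ (Scheme.Modules.pullback G.hom).mapIso (c ≪≫ F) ≪≫ Groth.Agent.DerPerf.pullFreeIso G.hom g⟩

/-- Modules with frames over the whole scheme of the same length are isomorphic. -/
theorem nonempty_iso_free_of_frame {n : ℕ} {M : X.Modules} {e : Fin n → Γ(M, (⊤ : X.Opens))}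
    (hb : TMul.IsFrame e) : Nonempty (M ≅ FlatMod.freeMod X n) := by
  have hbv := PBundle.isFrame_bv X n
  obtain ⟨φ, hφ⟩ := PBundle.exists_hom_frame hb rfl (PBundle.bv X)
  obtain ⟨ψ, hψ⟩ := PBundle.exists_hom_frame hbv rfl e
  exact ⟨⟨φ, ψ, PBundle.hom_ext_frame hb rfl fun i => ((congrArg (ψ.app ⊤) (hφ i)).trans (hψ i)).trans rfl,
    PBundle.hom_ext_frame hbv rfl fun i => ((congrArg (φ.app ⊤) (hψ i)).trans (hφ i)).trans rfl⟩⟩

/-- Bases on all affine opens form a frame. -/
theorem isFrame_of_affine {n : ℕ} {M : X.Modules} {e : Fin n → Γ(M, (⊤ : X.Opens))}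
    (h : ∀ V : X.Opens, IsAffineOpen V →
      Function.Bijective fun c : Fin n → Γ(X, V) => ∑ i, c i • res M (le_top : V ≤ ⊤) (e i)) : TMul.IsFrame e := by
  intro x hx
  have hgc : ∀ {V W : X.Opens} (hVW : V ≤ W) (c : Fin n → Γ(X, W)),
      res M hVW (∑ i, c i • res M (le_top : W ≤ ⊤) (e i)) = ∑ i, resO X hVW (c i) • res M le_top (e i) :=
    fun hVW c => by simp only [map_sum, res_smul, res_res]
  constructor
  · intro σ τ hστ
    choose Ws hWs a ha using fun i => X.presheaf.exists_germ_eq (x := x) (σ i - τ i)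
    obtain ⟨V, hV, hxV, hVle⟩ := exists_isAffineOpen_mem_and_subset (X := X) (x := x)
      (U := Finset.univ.inf Ws) (by
        change x ∈ ((Finset.univ.inf Ws : X.Opens) : Set X)
        rw [Opens.coe_finset_inf, Finset.inf_set_eq_iInter, Set.mem_iInter₂]
        exact fun i _ => hWs i)
    have hV' : ∀ i, V ≤ Ws i := fun i => le_trans (show V ≤ Finset.univ.inf Ws from hVle)
      (Finset.inf_le (Finset.mem_univ i))
    let c : Fin n → Γ(X, V) := fun i => resO X (hV' i) (a i)
    have hc : ∀ i, (X.presheaf.germ V x hxV).hom (c i) = σ i - τ i := fun i =>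
      (TopCat.Presheaf.germ_res_apply X.presheaf _ x hxV (a i)).trans (ha i)
    have h0 : Groth.Agent.WeakAssLib.mgerm M hxV (∑ i, c i • res M (le_top : V ≤ ⊤) (e i)) =
        Groth.Agent.WeakAssLib.mgerm M hxV 0 := by
      rw [TMul.germ_comb (le_top : V ≤ ⊤) hxV, map_zero]
      simp only [hc, sub_smul, Finset.sum_sub_distrib]
      exact sub_eq_zero.2 hστ
    obtain ⟨W', hxW', i₁, i₂, heq⟩ := TopCat.Presheaf.germ_eq M.presheaf x hxV hxV _ _ h0
    obtain ⟨V', hV'a, hxV', hV'le⟩ := exists_isAffineOpen_mem_and_subset (X := X) (x := x) (U := W') hxW'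
    have hle : V' ≤ W' := hV'le
    have heq' : res M (hle.trans i₁.le) (∑ i, c i • res M (le_top : V ≤ ⊤) (e i)) =
        res M (hle.trans i₁.le) 0 := by
      have e1 := congrArg (res M hle) (show res M i₁.le (∑ i, c i • res M (le_top : V ≤ ⊤) (e i)) =
        res M i₂.le 0 from heq)
      rw [res_res, map_zero, map_zero] at e1
      rw [e1, map_zero]
    rw [hgc, map_zero] at heq'
    have hc0 : (fun i => resO X (hle.trans i₁.le) (c i)) = 0 := (h V' hV'a).1 (by
      simpa only [Pi.zero_apply, zero_smul, Finset.sum_const_zero] using heq')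
    funext i
    rw [← sub_eq_zero, ← hc i, ← TopCat.Presheaf.germ_res_apply X.presheaf (homOfLE (hle.trans i₁.le)) x hxV' (c i)]
    exact (congrArg _ (congrFun hc0 i)).trans (map_zero _)
  · intro t
    obtain ⟨W, hxW, s, rfl⟩ := M.presheaf.exists_germ_eq (x := x) t
    obtain ⟨V, hV, hxV, hVle⟩ := exists_isAffineOpen_mem_and_subset (X := X) (x := x) (U := W) hxW
    obtain ⟨c, hc⟩ := (h V hV).2 (res M (show V ≤ W from hVle) s)
    refine ⟨fun i => (X.presheaf.germ V x hxV).hom (c i), ?_⟩
    have h1 := congrArg (Groth.Agent.WeakAssLib.mgerm M hxV) hc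
    rw [TMul.germ_comb, Groth.Agent.WeakAssLib.mgerm_res] at h1
    exact h1

/-- Exterior powers of free modules are free. -/
theorem nonempty_extPow_free {g r : ℕ} {E L : X.Modules} (F : E ≅ FlatMod.freeMod X g)
    (hL : ExtPow.IsExtPow r E L) : Nonempty (L ≅ FlatMod.freeMod X (g.choose r)) := by
  classical
  obtain ⟨φ, hφ⟩ := hL
  let e : Fin g → Γ(E, (⊤ : X.Opens)) := fun i => F.inv.app ⊤ (PBundle.bv X i)
  have he : TMul.IsFrame e := W7Strat.isFrame_app F.symm (PBundle.isFrame_bv X g)
  let J := Fintype.equivFinOfCardEq (α := Set.powersetCard (Fin g) r) (n := g.choose r)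
    (by rw [Fintype.card_eq_nat_card, Set.powersetCard.card, Nat.card_fin])
  let v : ∀ V : X.affineOpens, Fin (g.choose r) → Γ(L, V.1) := fun V m =>
    (φ V).symm (exteriorPower.ιMulti Γ(X, V.1) r fun j =>
      (res E (le_top : V.1 ≤ ⊤) (e (Set.powersetCard.ofFinEmbEquiv.symm (J.symm m) j)) :
        E.val.obj (op V.1)))
  have hv : ∀ (U V : X.affineOpens) (h : V.1 ≤ U.1) m, res L h (v U m) = v V m := fun U V h m => by
    refine (hφ U V h _).trans ?_
    simp only [v]
    congr 2
    funext j
    exact res_res E h le_top _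
  have hglue : ∀ m, ∃ s : Γ(L, (⊤ : X.Opens)), ∀ V : X.affineOpens, res L le_top s = v V m := fun m => by
    obtain ⟨s, hs⟩ := ZCl.glue L (fun V : X.affineOpens => V.1) (V := ⊤) (fun _ => le_top)
      (fun x _ => by
        obtain ⟨V, hV, hxV, -⟩ := exists_isAffineOpen_mem_and_subset (X := X) (x := x) (U := ⊤) trivial
        exact ⟨⟨V, hV⟩, hxV⟩)
      (fun V => v V m) (fun U V => QC.section_eq_of_locally fun x hx => by
        obtain ⟨W, hW, hxW, hWle⟩ := exists_isAffineOpen_mem_and_subset (X := X) (x := x) (U := U.1 ⊓ V.1) hx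
        have hW' : W ≤ U.1 ⊓ V.1 := hWle
        refine ⟨W, hW', hxW, ?_⟩
        change res L hW' (res L _ (v U m)) = res L hW' (res L _ (v V m))
        rw [res_res, res_res, hv U ⟨W, hW⟩ (hW'.trans inf_le_left), hv V ⟨W, hW⟩ (hW'.trans inf_le_right)])
    exact ⟨s, hs⟩
  choose s hs using hglue
  refine nonempty_iso_free_of_frame (e := s) (isFrame_of_affine fun V hV => ?_)
  let b : Module.Basis (Fin g) Γ(X, V) (E.val.obj (op V)) :=
    Module.Basis.ofEquivFun (he.equiv (le_top : V ≤ ⊤)).symm
  have hb : ∀ i, b i = res E (le_top : V ≤ ⊤) (e i) := fun i => by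
    rw [Module.Basis.coe_ofEquivFun]
    refine (he.equiv (le_top : V ≤ ⊤)).symm.injective ?_
    refine ((he.equiv (le_top : V ≤ ⊤)).symm_apply_apply _).trans ?_
    funext j
    rw [TMul.IsFrame.equiv_symm_res, Pi.single_apply]
    split_ifs <;> simp_all
  let B := (b.exteriorPower r).reindex J
  have hBv : ∀ m, v ⟨V, hV⟩ m = (φ ⟨V, hV⟩).symm (B m) := fun m => by
    simp only [v, B, Module.Basis.reindex_apply, exteriorPower.basis_apply]
    congr 1
    refine congrArg _ (funext fun j => ?_)
    exact (hb _).symm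
  have : (fun c : Fin (g.choose r) → Γ(X, V) => ∑ i, c i • res L le_top (s i)) =
      fun c => (φ ⟨V, hV⟩).symm (B.equivFun.symm c) := by
    funext c
    rw [Module.Basis.equivFun_symm_apply, map_sum]
    refine Finset.sum_congr rfl fun m _ => ?_
    rw [map_smul, hs m ⟨V, hV⟩, hBv]
  rw [this]
  exact (φ ⟨V, hV⟩).symm.bijective.comp B.equivFun.symm.bijective

end Groth.Agent.AVOmega
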