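import Groth.Agent.AVOmega.Basic
import Groth.Agent.ResDesc.Dual
import Groth.Agent.W7Cech.UnitIso
import Groth.Agent.S7795
import Groth.Agent.PerfPush.H0

/-!
Sections of differentials of group schemes: pullback and pushforward of finite locally free modules.
-/

set_option autoImplicit false
set_option backward.isDefEq.respectTransparency false
set_option linter.style.haveILetI false
set_option linter.unusedSectionVars false

universe u

open CategoryTheory CategoryTheory.Limits AlgebraicGeometry TopologicalSpace Opposite MonObj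
open Groth.Agent.QC (res resO res_res res_self res_smul app_res)

noncomputable section

namespace Groth.Agent.AVOmega

variable {X Y Z : Scheme.{u}}

/-- Differentials of smooth morphisms are finite locally free. -/
theorem isFinLocFree_omega (π : X ⟶ Y) [Smooth π] [QuasiSeparated π] :
    FlatMod.IsFinLocFree (Omega.sheaf π) := by
  refine Groth.Agent.ResDesc.isFinLocFree_of_frames fun x => ?_
  obtain ⟨V, hV, U, hU, hxU, e, hs⟩ := Smooth.exists_isStandardSmooth π x
  letI : Algebra Γ(Y, V) Γ(X, U) := (π.appLE V U e).hom.toAlgebra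
  haveI hA : Algebra.IsStandardSmooth Γ(Y, V) Γ(X, U) := hs
  obtain ⟨z, hz⟩ : x ∈ Set.range hU.fromSpec := hU.range_fromSpec.ge hxU
  haveI : Nontrivial Γ(X, U) := PrimeSpectrum.nontrivial z
  haveI : Module.Finite Γ(X, U) Ω[Γ(X, U)⁄Γ(Y, V)] := inferInstance
  haveI : Module.Free Γ(X, U) Ω[Γ(X, U)⁄Γ(Y, V)] := inferInstance
  let b := Module.finBasis Γ(X, U) Ω[Γ(X, U)⁄Γ(Y, V)]
  have w : Spec.map (CommRingCat.ofHom (algebraMap Γ(Y, V) Γ(X, U))) ≫ hV.fromSpec = hU.fromSpec ≫ π :=
    IsAffineOpen.SpecMap_appLE_fromSpec π hV hU e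
  obtain ⟨θ, T, hθ, hθb, hT, hTs, -⟩ := Groth.Agent.QC.exists_sectEquiv_omega (R := Γ(Y, V)) (A := Γ(X, U)) π
    hV.fromSpec hU.fromSpec w U
    (by rw [hU.fromSpec.image_top_eq_opensRange]; exact hU.opensRange_fromSpec)
  let v : _ → Γ(Omega.sheaf π, U) := fun i => (Equiv.ofBijective T hT).symm (b i)
  refine ⟨U, _, v, hxU, Groth.Agent.PBundle.isFrame_of_bijective (FittLib.isQCoh_omega π) hU ?_⟩
  have h1 : ∀ c : _ → Γ(X, U), T (∑ i, c i • v i) = b.equivFun.symm (fun i => θ (c i)) := fun c => by
    rw [map_sum, Module.Basis.equivFun_symm_apply]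
    refine Finset.sum_congr rfl fun i _ => ?_
    rw [hTs]
    exact congrArg (fun w => θ (c i) • w) ((Equiv.ofBijective T hT).apply_symm_apply (b i))
  have h2 : Function.Bijective fun c : _ → Γ(X, U) => T (∑ i, c i • v i) := by
    rw [funext h1]
    exact b.equivFun.symm.bijective.comp ((Equiv.piCongrRight fun _ => Equiv.ofBijective θ hθb).bijective)
  exact (Function.Bijective.of_comp_iff' hT _).1 h2

/-- The unit sends combinations of a frame to combinations of its inverse image. -/
theorem unit_comb (f : X ⟶ Y) {E : Y.Modules} {n : ℕ} {U W : Y.Opens} (e : Fin n → Γ(E, U)) (hW : W ≤ U)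
    (c : Fin n → Γ(Y, W)) :
    (show Γ((Scheme.Modules.pullback f).obj E, f ⁻¹ᵁ W) from
      ((Scheme.Modules.pullbackPushforwardAdjunction f).unit.app E).app W (∑ i, c i • res E hW (e i))) =
      ∑ i, (f.app W).hom (c i) • res ((Scheme.Modules.pullback f).obj E) (f.preimage_mono hW)
        (((Scheme.Modules.pullbackPushforwardAdjunction f).unit.app E).app U (e i)) := by
  refine (map_sum (((Scheme.Modules.pullbackPushforwardAdjunction f).unit.app E).app W).hom _ _).trans ?_
  refine Finset.sum_congr rfl fun i _ => ?_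
  refine (Scheme.Modules.Hom.app_smul _ (c i) _).trans ?_
  change (f.app W).hom (c i) • (show Γ((Scheme.Modules.pullback f).obj E, f ⁻¹ᵁ W) from _) = _
  exact congrArg ((f.app W).hom (c i) • ·) (app_res _ hW (e i)).symm

/-- Maps bijective on small opens are isomorphisms. -/
theorem isIso_of_locally_bijective {M N : X.Modules} (φ : M ⟶ N)
    (hloc : ∀ y : X, ∃ U : X.Opens, y ∈ U ∧ ∀ W : X.Opens, W ≤ U → Function.Bijective (φ.app W)) : IsIso φ := by
  haveI : Epi φ := InvGen.epi_of_locally φ fun U t y hy => by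
    obtain ⟨V, hyV, hV⟩ := hloc y
    exact ⟨U ⊓ V, inf_le_left, ⟨hy, hyV⟩, (hV _ inf_le_right).2 _⟩
  haveI : Mono φ := (QC.mono_iff_app_injective _).2 fun W s t hst => QC.section_eq_of_locally fun y hy => by
    obtain ⟨V, hyV, hV⟩ := hloc y
    refine ⟨W ⊓ V, inf_le_left, ⟨hy, hyV⟩, (hV _ inf_le_right).1 ?_⟩
    rw [← app_res φ, ← app_res φ, hst]
  exact isIso_of_mono_of_epi φ

/-- The unit is an isomorphism on finite locally free modules when functions push forward to functions. -/
theorem isIso_unit_of_finLocFree (f : X ⟶ Y) (h : ∀ W : Y.Opens, IsIso (f.app W)) {E : Y.Modules}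
    (hE : FlatMod.IsFinLocFree E) : IsIso ((Scheme.Modules.pullbackPushforwardAdjunction f).unit.app E) := by
  refine isIso_of_locally_bijective _ fun y => ?_
  obtain ⟨U, n, e, hy, he⟩ := TMul.exists_isFrame hE y
  refine ⟨U, hy, fun W hW => ?_⟩
  haveI := h W
  have h1 : Function.Bijective fun c : Fin n → Γ(Y, W) =>
      ((Scheme.Modules.pullbackPushforwardAdjunction f).unit.app E).app W (∑ i, c i • res E hW (e i)) := by
    rw [funext (unit_comb f e hW)]
    exact ((he.pullback f).equiv (f.preimage_mono hW)).bijective.comp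
      (Equiv.piCongrRight fun _ => Equiv.ofBijective _ (ConcreteCategory.bijective_of_isIso (f.app W))).bijective
  exact (Function.Bijective.of_comp_iff _ (he.equiv hW).bijective).1 h1

/-- For a section `e` of `π`, sections of `e^*π^*E` are those of `E`. -/
theorem bijective_unit_section (e : Y ⟶ X) (π : X ⟶ Y) [IsIso (e ≫ π)] {E : Y.Modules}
    (hE : FlatMod.IsFinLocFree E) :
    IsIso ((Scheme.Modules.pullbackPushforwardAdjunction π).unit.app E ≫ (Scheme.Modules.pushforward π).map
      ((Scheme.Modules.pullbackPushforwardAdjunction e).unit.app ((Scheme.Modules.pullback π).obj E))) := by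
  refine isIso_of_locally_bijective _ fun y => ?_
  obtain ⟨U, n, v, hy, hv⟩ := TMul.exists_isFrame hE y
  refine ⟨U, hy, fun W hW => ?_⟩
  let M := (Scheme.Modules.pullback π).obj E
  have hw := (hv.pullback π).pullback e
  have h1 : Function.Bijective fun c : Fin n → Γ(Y, W) =>
      (show Γ((Scheme.Modules.pullback e).obj M, e ⁻¹ᵁ π ⁻¹ᵁ W) from
      ((Scheme.Modules.pullbackPushforwardAdjunction e).unit.app M).app (π ⁻¹ᵁ W)
        (show Γ(M, π ⁻¹ᵁ W) from
          ((Scheme.Modules.pullbackPushforwardAdjunction π).unit.app E).app W (∑ i, c i • res E hW (v i)))) := by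
    have e1 : (fun c : Fin n → Γ(Y, W) =>
      (show Γ((Scheme.Modules.pullback e).obj M, e ⁻¹ᵁ π ⁻¹ᵁ W) from
      ((Scheme.Modules.pullbackPushforwardAdjunction e).unit.app M).app (π ⁻¹ᵁ W)
        (show Γ(M, π ⁻¹ᵁ W) from
          ((Scheme.Modules.pullbackPushforwardAdjunction π).unit.app E).app W (∑ i, c i • res E hW (v i))))) =
        fun c => hw.equiv (e.preimage_mono (π.preimage_mono hW)) fun i => ((e ≫ π).app W).hom (c i) := by
      funext c
      rw [unit_comb π v hW c, unit_comb e _ (π.preimage_mono hW)]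
      rfl
    rw [e1]
    exact (hw.equiv _).bijective.comp
      (Equiv.piCongrRight fun _ => Equiv.ofBijective _ (ConcreteCategory.bijective_of_isIso ((e ≫ π).app W))).bijective
  exact (Function.Bijective.of_comp_iff _ (hv.equiv hW).bijective).1 h1

variable {S : Scheme.{u}} (A : Over S) [GrpObj A] [IsProper A.hom] [Flat A.hom] [LocallyOfFinitePresentation A.hom]
  [GeometricallyReduced A.hom] [GeometricallyConnected A.hom]

theorem isFinLocFree_pullback_omega :
    FlatMod.IsFinLocFree ((Scheme.Modules.pullback η[A].left).obj (Omega.sheaf A.hom)) := by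
  haveI := Groth.Agent.S7795.result A
  exact Groth.Agent.DerPerf.isFinLocFree_pullback _ (isFinLocFree_omega A.hom)

theorem isIso_app_av (V : S.Opens) : IsIso (A.hom.app V) := by
  refine Groth.Agent.PerfPush.isIso_app A.hom (fun s => ?_) V
  refine Groth.Agent.PerfPush.isIso_fiber_appTop A.hom (fun K _ _ g => ⟨?_, ?_⟩) s
  · exact GeometricallyReduced.geometrically_isReduced (f := A.hom) g _ _ (IsPullback.of_hasPullback A.hom g)
  · exact GeometricallyConnected.geometrically_connectedSpace (f := A.hom) g _ _ (IsPullback.of_hasPullback A.hom g)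

theorem nonempty_omega_iso_pullback :
    Nonempty (Omega.sheaf A.hom ≅
      (Scheme.Modules.pullback A.hom).obj ((Scheme.Modules.pullback η[A].left).obj (Omega.sheaf A.hom))) := by
  obtain ⟨E⟩ := (Groth.Agent.S1937.result S A).1
  let e : S ⟶ A.left := η[A].left
  have he : e ≫ A.hom = 𝟙 _ := Over.w η[A]
  haveI : IsImmersion e := by
    haveI : IsImmersion (e ≫ A.hom) := by rw [he]; infer_instance
    exact IsImmersion.of_comp e A.hom
  haveI : QuasiCompact e := by
    haveI : QuasiCompact (e ≫ A.hom) := by rw [he]; infer_instance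
    exact MorphismProperty.of_postcomp (W' := @QuasiSeparated) _ e A.hom inferInstance inferInstance
  obtain ⟨c⟩ := Groth.Agent.GrpOmega.nonempty_iso_conormal A.hom e he
    (Groth.Agent.OmegaLib.isUniversal_dOmega A.hom)
  exact ⟨E ≪≫ (Scheme.Modules.pullback A.hom).mapIso c⟩

theorem nonempty_push_omega :
    Nonempty ((Coh.push A.hom).obj (Omega.sheaf A.hom) ≅
      (Scheme.Modules.pullback η[A].left).obj (Omega.sheaf A.hom)) := by
  obtain ⟨E⟩ := nonempty_omega_iso_pullback A
  haveI := isIso_unit_of_finLocFree A.hom (isIso_app_av A) (isFinLocFree_pullback_omega A)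
  exact ⟨(Scheme.Modules.pushforward A.hom).mapIso E ≪≫
    (asIso ((Scheme.Modules.pullbackPushforwardAdjunction A.hom).unit.app _)).symm⟩

theorem bijective_unit_omega :
    Function.Bijective ((((Scheme.Modules.pullbackPushforwardAdjunction η[A].left).unit.app
      (Omega.sheaf A.hom)).val.app (op ⊤)).hom) := by
  obtain ⟨E⟩ := nonempty_omega_iso_pullback A
  let e : S ⟶ A.left := η[A].left
  haveI : IsIso (e ≫ A.hom) := by rw [show e ≫ A.hom = 𝟙 _ from Over.w η[A]]; infer_instance
  let P := (Scheme.Modules.pullback e).obj (Omega.sheaf A.hom)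
  let M := (Scheme.Modules.pullback A.hom).obj P
  have hP := isFinLocFree_pullback_omega A
  haveI h1 := isIso_unit_of_finLocFree A.hom (isIso_app_av A) hP
  haveI h2 := bijective_unit_section e A.hom hP
  haveI h3 : IsIso ((Scheme.Modules.pushforward A.hom).map
      ((Scheme.Modules.pullbackPushforwardAdjunction e).unit.app M)) :=
    IsIso.of_isIso_comp_left ((Scheme.Modules.pullbackPushforwardAdjunction A.hom).unit.app P) _
  have h4 : Function.Bijective (((Scheme.Modules.pullbackPushforwardAdjunction e).unit.app M).app ⊤) :=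
    ConcreteCategory.bijective_of_isIso
      (Scheme.Modules.Hom.app ((Scheme.Modules.pushforward A.hom).map
        ((Scheme.Modules.pullbackPushforwardAdjunction e).unit.app M)) ⊤)
  have hnat := (Scheme.Modules.pullbackPushforwardAdjunction e).unit.naturality E.hom
  have h5 : Function.Bijective (fun s => ((Scheme.Modules.pullbackPushforwardAdjunction e).unit.app M).app ⊤
      (E.hom.app ⊤ s)) :=
    h4.comp (ConcreteCategory.bijective_of_isIso (Scheme.Modules.Hom.app E.hom ⊤))
  have h6 : (fun s => ((Scheme.Modules.pullbackPushforwardAdjunction e).unit.app M).app ⊤ (E.hom.app ⊤ s)) =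
      (fun t => ((Scheme.Modules.pushforward e).map ((Scheme.Modules.pullback e).map E.hom)).app ⊤ t) ∘
        fun s => ((Scheme.Modules.pullbackPushforwardAdjunction e).unit.app (Omega.sheaf A.hom)).app ⊤ s := by
    funext s
    exact congr(($hnat).app ⊤ s)
  rw [h6] at h5
  exact (Function.Bijective.of_comp_iff'
    (ConcreteCategory.bijective_of_isIso (Scheme.Modules.Hom.app
      ((Scheme.Modules.pushforward e).map ((Scheme.Modules.pullback e).map E.hom)) ⊤)) _).1 h5

end Groth.Agent.AVOmega
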